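import Cfsg.Agent.Lib.T2.Fm
import Cfsg.Agent.Lib.JR.J1TC

/-! The model `h0` of `2 × A₅` (letters `t a c r R`), generated with tools/fm.py. -/

set_option autoImplicit false
set_option maxRecDepth 100000

namespace Cfsg.Lib.JR

open Cfsg.Lib.Calc Cfsg.Lib.Grp Cfsg.Lib.T2

def h0_L0 : List (ℕ × List ℕ) := [((nat_lit 5), [(nat_lit 1754760), (nat_lit 1525384)]),
  ((nat_lit 0), [(nat_lit 1754760), (nat_lit 1754305), (nat_lit 1737932), (nat_lit 1754690), (nat_lit 1753731)]),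
  ((nat_lit 1), [(nat_lit 1754760), (nat_lit 1753808), (nat_lit 1742048), (nat_lit 1754200)]),
  ((nat_lit 2), [(nat_lit 1754760), (nat_lit 1750280), (nat_lit 1747144)])]

def h0_D0 : List ℕ := [(nat_lit 0), (nat_lit 513), (nat_lit 0), (nat_lit 1025), (nat_lit 1537), (nat_lit 83970), (nat_lit 92418), (nat_lit 0), (nat_lit 2049), (nat_lit 3258627), (nat_lit 2305), (nat_lit 0), (nat_lit 8363267), (nat_lit 9380099)]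

def h0_L1 : List (ℕ × List ℕ) := [((nat_lit 5), [(nat_lit 1754760), (nat_lit 1525384)]),
  ((nat_lit 0), [(nat_lit 1754760), (nat_lit 1754305), (nat_lit 1753171), (nat_lit 1753626)])]

def h0_D1 : List ℕ := [(nat_lit 0), (nat_lit 513), (nat_lit 0), (nat_lit 1025), (nat_lit 1537), (nat_lit 66050)]

def h0_L2 : List (ℕ × List ℕ) := [((nat_lit 5), [(nat_lit 1754760), (nat_lit 1525384)]),
  ((nat_lit 0), [(nat_lit 1754760), (nat_lit 1754305), (nat_lit 1754690), (nat_lit 1753731)]),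
  ((nat_lit 1), [(nat_lit 1754760), (nat_lit 1753808), (nat_lit 1754200)])]

def h0_D2 : List ℕ := [(nat_lit 0), (nat_lit 513), (nat_lit 0), (nat_lit 1025), (nat_lit 58882), (nat_lit 66306), (nat_lit 0), (nat_lit 1537), (nat_lit 1793)]

def h0_L3 : List (ℕ × List ℕ) := [((nat_lit 1), [(nat_lit 1754760), (nat_lit 1524432), (nat_lit 1524824)]),
  ((nat_lit 5), [(nat_lit 1754760), (nat_lit 1525384)])]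

def h0_D3 : List ℕ := [(nat_lit 0), (nat_lit 513), (nat_lit 769), (nat_lit 0), (nat_lit 229635)]

def h0 : PM :=
  ⟨(nat_lit 7), (nat_lit 3), [(nat_lit 1525384), (nat_lit 1754305), (nat_lit 1737932), (nat_lit 1753808), (nat_lit 1754200)],
    [[.l 1, .l 2, .l 3, .l 4],
    [.l 1, .l 2, .mul (.mul (.l 5) (.l 2)) (.l 4)],
    [.l 1, .l 2, .l 4],
    [.mul (.l 1) (.l 4)]],
    [h0_L0, h0_L1, h0_L2, h0_L3], [h0_D0, h0_D1, h0_D2, h0_D3]⟩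

instance h0_ne : NeZero h0.n := ⟨by decide⟩

theorem h0_ok0 : h0.ok0 = true := by decide +kernel

theorem h0_k0 : allFrom (nat_lit 0) (nat_lit 1) h0.okK = true := by decide +kernel

theorem h0_k1 : allFrom (nat_lit 1) (nat_lit 1) h0.okK = true := by decide +kernel

theorem h0_k2 : allFrom (nat_lit 2) (nat_lit 1) h0.okK = true := by decide +kernel

theorem h0_k3 : allFrom (nat_lit 3) (nat_lit 1) h0.okK = true := by decide +kernel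

theorem h0_ok : h0.OK := PM.OK.of_check h0_ok0
  (of_allFrom_append (of_allFrom_append (of_allFrom_append (of_allFrom_append of_lt_zero h0_k0) h0_k1) h0_k2) h0_k3)

theorem h0_card0 : Nat.card (genW h0.gam (h0.ws 0)) = 120 := (h0_ok.card 0).trans (by decide +kernel)

theorem h0_card1 : Nat.card (genW h0.gam (h0.ws 1)) = 8 := (h0_ok.card 1).trans (by decide +kernel)

theorem h0_card2 : Nat.card (genW h0.gam (h0.ws 2)) = 24 := (h0_ok.card 2).trans (by decide +kernel)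

theorem h0_card3 : Nat.card (genW h0.gam (h0.ws 3)) = 6 := (h0_ok.card 3).trans (by decide +kernel)

theorem h0_relsH : ∀ t ∈ relsH, t.ev h0.gam = 1 := h0_ok.rels (by decide +kernel)

def relsS : List W := [.pow (.l 5) 3, .mul (.mul (.mul (.inv (.l 1)) (.inv (.l 5))) (.l 1)) (.l 5), .mul (.mul (.mul (.inv (.l 1)) (.inv (.l 3))) (.l 1)) (.l 3), .mul (.mul (.mul (.inv (.l 1)) (.inv (.l 2))) (.l 1)) (.l 2), .pow (.mul (.l 3) (.l 5)) 2, .pow (.mul (.l 3) (.l 2)) 3, .mul (.mul (.l 2) (.mul (.mul (.inv (.l 5)) (.l 2)) (.l 5))) (.mul (.mul (.inv (.pow (.l 5) 2)) (.l 2)) (.pow (.l 5) 2)), .mul (.mul (.mul (.inv (.l 2)) (.inv (.mul (.mul (.inv (.l 5)) (.l 2)) (.l 5)))) (.l 2)) (.mul (.mul (.inv (.l 5)) (.l 2)) (.l 5))]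

theorem h0_relsS : ∀ t ∈ relsS, t.ev h0.gam = 1 := h0_ok.rels (by decide +kernel)

theorem h0_lab : Lab h0.gam ivH := h0_ok.lab (by decide) (by decide +kernel) (by decide)

theorem f_cen_ev : h0.eval (.all 0 40 [(.l 2, .l 2), (.l 3, .l 3)] (.or (.one (.l 40)) (.eq (.l 40) (.l 1)))) = true := by
  decide +kernel

theorem f_cen {G : Type*} [Group G] {γ : ℕ → G} (h : IsoW h0.gam γ) :
    ∀ z ∈ genW γ (h0.ws 0), z * γ 2 = γ 2 * z → z * γ 3 = γ 3 * z → z = 1 ∨ z = γ 1 :=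
  h0_ok.transfer h f_cen_ev

theorem f_cS_ev : h0.eval (.all 0 40 [(.l 2, .l 2), (.mul (.mul (.l 5) (.l 2)) (.l 4), .mul (.mul (.l 5) (.l 2)) (.l 4))] (.mem 1 (.l 40))) = true := by
  decide +kernel

theorem f_cS {G : Type*} [Group G] {γ : ℕ → G} (h : IsoW h0.gam γ) :
    ∀ z ∈ genW γ (h0.ws 0), z * γ 2 = γ 2 * z → z * (γ 5 * γ 2 * γ 4) = γ 5 * γ 2 * γ 4 * z → z ∈ genW γ (h0.ws 1) :=
  h0_ok.transfer h f_cS_ev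

theorem f_sq_ev : h0.eval (.all 1 40 [] (.one (.pow (.l 40) 2))) = true := by
  decide +kernel

theorem f_sq {G : Type*} [Group G] {γ : ℕ → G} (h : IsoW h0.gam γ) :
    ∀ z ∈ genW γ (h0.ws 1), z ^ 2 = 1 :=
  h0_ok.transfer h f_sq_ev

theorem f_cr_ev : h0.eval (.all 0 40 [(.l 4, .l 4)] (.mem 3 (.l 40))) = true := by
  decide +kernel

theorem f_cr {G : Type*} [Group G] {γ : ℕ → G} (h : IsoW h0.gam γ) :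
    ∀ z ∈ genW γ (h0.ws 0), z * γ 4 = γ 4 * z → z ∈ genW γ (h0.ws 3) :=
  h0_ok.transfer h f_cr_ev

theorem f_exp_ev : h0.eval (.all 0 40 [] (.one (.pow (.l 40) 30))) = true := by
  decide +kernel

theorem f_exp {G : Type*} [Group G] {γ : ℕ → G} (h : IsoW h0.gam γ) :
    ∀ z ∈ genW γ (h0.ws 0), z ^ 30 = 1 :=
  h0_ok.transfer h f_exp_ev

theorem f_w1_ev : h0.eval (.all 0 40 [] (.imp (.eq (.mul (.mul (.mul (.mul (.mul (.l 1) (.l 5)) (.l 2)) (.l 4)) (.l 40)) (.inv (.mul (.mul (.mul (.l 1) (.l 5)) (.l 2)) (.l 4)))) (.inv (.l 40))) (.imp (.one (.pow (.l 40) 15)) (.imp (.not (.one (.l 40))) (.or (.eq (.mul (.mul (.l 3) (.l 2)) (.l 4)) (.pow (.l 40) 1)) (.or (.eq (.mul (.mul (.l 3) (.l 2)) (.l 4)) (.pow (.l 40) 2)) (.or (.eq (.mul (.mul (.l 3) (.l 2)) (.l 4)) (.pow (.l 40) 3)) (.or (.eq (.mul (.mul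 (.l 3) (.l 2)) (.l 4)) (.pow (.l 40) 4)) (.or (.eq (.mul (.mul (.mul (.l 2) (.l 3)) (.l 2)) (.l 5)) (.pow (.l 40) 1)) (.or (.eq (.mul (.mul (.mul (.l 2) (.l 3)) (.l 2)) (.l 5)) (.pow (.l 40) 2)) (.or (.eq (.mul (.mul (.mul (.l 2) (.l 3)) (.l 2)) (.l 5)) (.pow (.l 40) 3)) (.or (.eq (.mul (.mul (.mul (.l 2) (.l 3)) (.l 2)) (.l 5)) (.pow (.l 40) 4)) (.or (.eq (.mul (.mul (.mul (.l 2) (.l 4)) (.l 2)) (.l 3)) (.pow (.l 40) 1)) (.or (.eq (.mul (.mul (.mul (.l 2) (.l 4)) (.l 2)) (.l 3)) (.pow (.l 40) 2)) (.or (.eq (.mul (.mul (.mul (.l 2) (.l 4)) (.l 2)) (.l 3)) (.pow (.l 40) 3)) (.or (.eq (.mul (.mul (.mul (.l 2) (.l 4)) (.l 2)) (.l 3)) (.pow (.l 40) 4)) (.or (.eq (.mul (.mul (.mul (.l 3) (.l 5)) (.l 2)) (.l 4)) (.pow (.l 40) 1)) (.or (.eq (.mul (.mul (.mul (.l 3) (.l 5)) (.l 2)) (.l 4)) (.pow (.l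 40) 2)) (.or (.eq (.mul (.mul (.mul (.l 3) (.l 5)) (.l 2)) (.l 4)) (.pow (.l 40) 3)) (.eq (.mul (.mul (.mul (.l 3) (.l 5)) (.l 2)) (.l 4)) (.pow (.l 40) 4))))))))))))))))))))) = true := by
  decide +kernel

theorem f_w1 {G : Type*} [Group G] {γ : ℕ → G} (h : IsoW h0.gam γ) :
    ∀ z ∈ genW γ (h0.ws 0), γ 1 * γ 5 * γ 2 * γ 4 * z * (γ 1 * γ 5 * γ 2 * γ 4)⁻¹ = z⁻¹ → z ^ 15 = 1 → z ≠ 1 → γ 3 * γ 2 * γ 4 = z ^ 1 ∨ γ 3 * γ 2 * γ 4 = z ^ 2 ∨ γ 3 * γ 2 * γ 4 = z ^ 3 ∨ γ 3 * γ 2 * γ 4 = z ^ 4 ∨ γ 2 * γ 3 * γ 2 * γ 5 = z ^ 1 ∨ γ 2 * γ 3 * γ 2 * γ 5 = z ^ 2 ∨ γ 2 * γ 3 * γ 2 * γ 5 = z ^ 3 ∨ γ 2 * γ 3 * γ 2 * γ 5 = z ^ 4 ∨ γ 2 * γ 4 * γ 2 * γ 3 = z ^ 1 ∨ γ 2 * γ 4 * γ 2 * γ 3 = z ^ 2 ∨ γ 2 * γ 4 * γ 2 * γ 3 = z ^ 3 ∨ γ 2 * γ 4 * γ 2 * γ 3 = z ^ 4 ∨ γ 3 * γ 5 * γ 2 * γ 4 = z ^ 1 ∨ γ 3 * γ 5 * γ 2 * γ 4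 = z ^ 2 ∨ γ 3 * γ 5 * γ 2 * γ 4 = z ^ 3 ∨ γ 3 * γ 5 * γ 2 * γ 4 = z ^ 4 :=
  h0_ok.transfer h f_w1_ev

theorem f_w2_ev : h0.eval (.all 0 40 [] (.imp (.eq (.mul (.mul (.mul (.mul (.inv (.pow (.l 4) 2)) (.l 2)) (.pow (.l 4) 2)) (.l 40)) (.inv (.mul (.mul (.inv (.pow (.l 4) 2)) (.l 2)) (.pow (.l 4) 2)))) (.inv (.l 40))) (.imp (.one (.pow (.l 40) 15)) (.imp (.not (.one (.l 40))) (.or (.eq (.mul (.mul (.l 3) (.l 2)) (.l 5)) (.pow (.l 40) 1)) (.or (.eq (.mul (.mul (.l 3) (.l 2)) (.l 5)) (.pow (.l 40) 2)) (.or (.eq (.mul (.mul (.l 3) (.l 2)) (.l 5)) (.pow (.l 40) 3)) (.or (.eq (.mul (.mul (.l 3) (.l 2)) (.l 5)) (.pow (.l 40) 4)) (.or (.eq (.mul (.mul (.mul (.l 2) (.l 3)) (.l 2)) (.l 4)) (.pow (.l 40) 1)) (.or (.eq (.mul (.mul (.mul (.l 2) (.l 3)) (.l 2)) (.l 4)) (.pow (.l 40) 2)) (.or (.eq (.mul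 (.mul (.mul (.l 2) (.l 3)) (.l 2)) (.l 4)) (.pow (.l 40) 3)) (.or (.eq (.mul (.mul (.mul (.l 2) (.l 3)) (.l 2)) (.l 4)) (.pow (.l 40) 4)) (.or (.eq (.mul (.mul (.mul (.l 2) (.l 5)) (.l 2)) (.l 3)) (.pow (.l 40) 1)) (.or (.eq (.mul (.mul (.mul (.l 2) (.l 5)) (.l 2)) (.l 3)) (.pow (.l 40) 2)) (.or (.eq (.mul (.mul (.mul (.l 2) (.l 5)) (.l 2)) (.l 3)) (.pow (.l 40) 3)) (.or (.eq (.mul (.mul (.mul (.l 2) (.l 5)) (.l 2)) (.l 3)) (.pow (.l 40) 4)) (.or (.eq (.mul (.mul (.mul (.l 3) (.l 4)) (.l 2)) (.l 5)) (.pow (.l 40) 1)) (.or (.eq (.mul (.mul (.mul (.l 3) (.l 4)) (.l 2)) (.l 5)) (.pow (.l 40) 2)) (.or (.eq (.mul (.mul (.mul (.l 3) (.l 4)) (.l 2)) (.l 5)) (.pow (.l 40) 3)) (.eq (.mul (.mul (.mul (.l 3) (.l 4)) (.l 2)) (.l 5)) (.pow (.l 40) 4))))))))))))))))))))) = true := by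
  decide +kernel

theorem f_w2 {G : Type*} [Group G] {γ : ℕ → G} (h : IsoW h0.gam γ) :
    ∀ z ∈ genW γ (h0.ws 0), (γ 4 ^ 2)⁻¹ * γ 2 * γ 4 ^ 2 * z * ((γ 4 ^ 2)⁻¹ * γ 2 * γ 4 ^ 2)⁻¹ = z⁻¹ → z ^ 15 = 1 → z ≠ 1 → γ 3 * γ 2 * γ 5 = z ^ 1 ∨ γ 3 * γ 2 * γ 5 = z ^ 2 ∨ γ 3 * γ 2 * γ 5 = z ^ 3 ∨ γ 3 * γ 2 * γ 5 = z ^ 4 ∨ γ 2 * γ 3 * γ 2 * γ 4 = z ^ 1 ∨ γ 2 * γ 3 * γ 2 * γ 4 = z ^ 2 ∨ γ 2 * γ 3 * γ 2 * γ 4 = z ^ 3 ∨ γ 2 * γ 3 * γ 2 * γ 4 = z ^ 4 ∨ γ 2 * γ 5 * γ 2 * γ 3 = z ^ 1 ∨ γ 2 * γ 5 * γ 2 * γ 3 = z ^ 2 ∨ γ 2 * γ 5 * γ 2 * γ 3 = z ^ 3 ∨ γ 2 * γ 5 * γ 2 * γ 3 = z ^ 4 ∨ γ 3 * γ 4 * γ 2 * γ 5 = z ^ 1 ∨ γ 3 * γ 4 * γ 2 * γ 5 = z ^ 2 ∨ γ 3 * γ 4 * γ 2 * γ 5 = z ^ 3 ∨ γ 3 * γ 4 * γ 2 * γ 5 = z ^ 4 :=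
  h0_ok.transfer h f_w2_ev

theorem f_odd_ev : h0.eval (.all 0 40 [] (.imp (.one (.pow (.l 40) 15)) (.imp (.not (.one (.l 40))) (.ex 0 41 [] (.and (.one (.pow (.mul (.mul (.l 40) (.l 40)) (.mul (.mul (.l 41) (.l 40)) (.inv (.l 41)))) 2)) (.not (.one (.mul (.mul (.l 40) (.l 40)) (.mul (.mul (.l 41) (.l 40)) (.inv (.l 41))))))))))) = true := by
  decide +kernel

theorem f_odd {G : Type*} [Group G] {γ : ℕ → G} (h : IsoW h0.gam γ) :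
    ∀ z ∈ genW γ (h0.ws 0), z ^ 15 = 1 → z ≠ 1 → ∃ h ∈ genW γ (h0.ws 0), (z * z * (h * z * h⁻¹)) ^ 2 = 1 ∧ z * z * (h * z * h⁻¹) ≠ 1 :=
  h0_ok.transfer h f_odd_ev

theorem f_inv_ev : h0.eval (.all 0 40 [] (.imp (.one (.mul (.l 40) (.l 40))) (.or (.one (.l 40)) (.or (.eq (.l 40) (.l 1)) (.or (.ex 0 41 [(.l 2, .l 40)] (.tt)) (.ex 0 41 [(.mul (.l 1) (.l 2), .l 40)] (.tt))))))) = true := by
  decide +kernel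

theorem f_inv {G : Type*} [Group G] {γ : ℕ → G} (h : IsoW h0.gam γ) :
    ∀ z ∈ genW γ (h0.ws 0), z * z = 1 → z = 1 ∨ z = γ 1 ∨ (∃ h ∈ genW γ (h0.ws 0), h * γ 2 = z * h ∧ True) ∨ (∃ h ∈ genW γ (h0.ws 0), h * (γ 1 * γ 2) = z * h ∧ True) :=
  h0_ok.transfer h f_inv_ev

theorem f_eq_ev : h0.eval (.and (.eq (.mul (.mul (.inv (.mul (.l 3) (.l 2))) (.l 2)) (.mul (.l 3) (.l 2))) (.l 3)) (.and (.eq (.mul (.mul (.inv (.mul (.l 3) (.l 2))) (.mul (.l 1) (.l 2))) (.mul (.l 3) (.l 2))) (.mul (.l 1) (.l 3))) (.and (.eq (.mul (.mul (.l 3) (.mul (.l 1) (.l 4))) (.inv (.l 3))) (.inv (.mul (.l 1) (.l 4)))) (.and (.one (.pow (.mul (.l 1) (.l 4)) 6)) (.and (.eq (.pow (.mul (.l 1) (.l 4)) 4) (.l 4)) (.and (.eq (.pow (.mul (.l 1) (.l 4)) 3) (.l 1)) (.eq (.mul (.mul (.l 3) (.l 4)) (.inv (.l 3))) (.l 5)))))))) =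 true := by
  decide +kernel

theorem f_eq {G : Type*} [Group G] {γ : ℕ → G} (h : IsoW h0.gam γ) :
    (γ 3 * γ 2)⁻¹ * γ 2 * (γ 3 * γ 2) = γ 3 ∧ (γ 3 * γ 2)⁻¹ * (γ 1 * γ 2) * (γ 3 * γ 2) = γ 1 * γ 3 ∧ γ 3 * (γ 1 * γ 4) * (γ 3)⁻¹ = (γ 1 * γ 4)⁻¹ ∧ (γ 1 * γ 4) ^ 6 = 1 ∧ (γ 1 * γ 4) ^ 4 = γ 4 ∧ (γ 1 * γ 4) ^ 3 = γ 1 ∧ γ 3 * γ 4 * (γ 3)⁻¹ = γ 5 :=
  h0_ok.transfer h f_eq_ev

theorem f_ne_ev : h0.eval (.and (.not (.one (.l 1))) (.and (.not (.eq (.l 2) (.l 1))) (.and (.not (.eq (.mul (.mul (.l 5) (.l 2)) (.l 4)) (.l 2))) (.and (.not (.one (.l 2))) (.and (.not (.one (.l 3))) (.and (.not (.eq (.l 3) (.l 1))) (.and (.not (.one (.l 4))) (.and (.not (.one (.pow (.mul (.l 1) (.l 4)) 2))) (.not (.mem 3 (.l 3))))))))))) = true := by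
  decide +kernel

theorem f_ne {G : Type*} [Group G] {γ : ℕ → G} (h : IsoW h0.gam γ) :
    γ 1 ≠ 1 ∧ γ 2 ≠ γ 1 ∧ γ 5 * γ 2 * γ 4 ≠ γ 2 ∧ γ 2 ≠ 1 ∧ γ 3 ≠ 1 ∧ γ 3 ≠ γ 1 ∧ γ 4 ≠ 1 ∧ (γ 1 * γ 4) ^ 2 ≠ 1 ∧ γ 3 ∉ genW γ (h0.ws 3) :=
  h0_ok.transfer h f_ne_ev

theorem f_nS_ev : h0.eval (.and (.mem 1 (.mul (.mul (.l 4) (.l 1)) (.l 5))) (.and (.mem 1 (.mul (.mul (.l 4) (.l 2)) (.l 5))) (.mem 1 (.mul (.mul (.mul (.mul (.l 4) (.l 5)) (.l 2)) (.l 4)) (.l 5))))) = true := by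
  decide +kernel

theorem f_nS {G : Type*} [Group G] {γ : ℕ → G} (h : IsoW h0.gam γ) :
    γ 4 * γ 1 * γ 5 ∈ genW γ (h0.ws 1) ∧ γ 4 * γ 2 * γ 5 ∈ genW γ (h0.ws 1) ∧ γ 4 * γ 5 * γ 2 * γ 4 * γ 5 ∈ genW γ (h0.ws 1) :=
  h0_ok.transfer h f_nS_ev

end Cfsg.Lib.JR
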